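import Cfsg.Agent.H430.Om7.Box
import Cfsg.Agent.H449.Om7.Lp
import Cfsg.Agent.H449.Om7.FourB
import Cfsg.Agent.H856.Om7.Main
import Cfsg.Agent.H179.Om.DimFour
import Cfsg.Agent.H909.Om7.DimFive
import Cfsg.Agent.H238.Om7.Plus
import Cfsg.Agent.H927.Om7.DimSixMinus

/-!
# S3691, `Ω_7(q)`: the boxes (helper430)
-/

set_option autoImplicit false
set_option linter.unusedSectionVars false

namespace Cfsg.Agent.H430.Om7

open Module QuadraticMap Cfsg Cfsg.Geo Cfsg.Agent.LieClassical.OrthCore Cfsg.Agent.LieClassical.OrthTrans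
  Cfsg.Agent.H884.El Cfsg.Agent.H915.LD Cfsg.Agent.H955 Cfsg.Agent.H954.TSing

theorem boxes (hk : H879.Nine.Known.{0}) {F : Type} [Field F] [Fintype F] {p f : ℕ} (hp : p.Prime) (hp2 : p ≠ 2) (hf : 1 ≤ f)
    (hF : Nat.card F = p ^ f) (h31 : 31 ≤ p ^ f) : Boxes F p f where
  lp := fun _ h => H449.Om7.lp hp hp2 hf h31 h
  irr_six := fun hH hne hirr _ _ hr hb hd => H856.Om7.irr_six hk hp hp2 hf hF h31 hH hne hirr hr hb hd
  irr_four := fun hH hne hirr _ _ hr hb hd => H449.Om7.irr_four hk hp hp2 hf hF h31 hH hne hirr hr hb hd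
  four := fun hQ h4 hpl hΓ _ hr hd hv => H179.Om.dim_four_minus hQ h4 hpl hp hp2 hf hF h31 hΓ hr hd hv
  five := fun hQ h5 hΓ _ _ hr hb hd => H909.Om7.dim_five hQ h5 hp hp2 hf hF h31 hΓ hr hb hd
  sixp := fun hQ h6 hpl hΓ _ _ hr hb hd => H238.Om7.dim_six_plus hQ h6 hpl hp hp2 hf hF h31 hΓ hr hb hd
  sixm := fun hQ h6 hpl hΓ _ _ hr hb hd => H927.Om7.dim_six_minus hQ h6 hpl hp hp2 hf hF h31 hΓ hr hb hd

end Cfsg.Agent.H430.Om7
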