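import Cfsg.Agent.H179.Om.DimFour
import Cfsg.Agent.H198.Om7.Three

/-!
# S3691, row `Ω_7(q)`: orders of large subgroups of `O_4^-(q)`, `KD.three'` (helper430, after helper179 and helper198)
-/

set_option autoImplicit false
set_option linter.unusedSectionVars false

namespace Cfsg.Agent.H430.Om7

open Module QuadraticMap Cfsg Cfsg.Agent.LieClassical.OrthCore Cfsg.Agent.LieClassical.OrthTrans
  Cfsg.Agent.H884.El Cfsg.Agent.H955 Cfsg.Agent.H954.TSing
open Cfsg.Agent.LieClassical.OrthFinite (isometryEquiv)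
open Cfsg.Agent.H179.Om (top_of_large oEquiv)
open Cfsg.Agent.H951 (fx cm Inv)
open scoped MatrixGroups Matrix commutatorElement

section abs

/-- abstract form: the order of a subgroup of `G` with a large image in the quotient of `R = [G, G]` -/
theorem dvd_of_large {G S : Type*} [Group G] [Finite G] [Group S] {R : Subgroup G} [R.Normal]
    (eS : R ⧸ Subgroup.center R ≃* S) (hcard : Nat.card G = 4 * Nat.card S) 
    {p r m : ℕ} (hp : p.Prime) (hp2 : p ≠ 2) (hr : r.Prime) (hr2 : r ≠ 2)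
    (hS : ∀ H : Subgroup S, p ^ m ∣ Nat.card H → r ∣ Nat.card H → H = ⊤) {Γ : Subgroup G}
    (h1 : p ^ m ∣ Nat.card Γ) (h2 : r ∣ Nat.card Γ) : Nat.card S ∣ Nat.card Γ := by
  classical
  have hfS : Finite S := Finite.of_equiv _ eS.toEquiv
  have hSpos : 0 < Nat.card S := Nat.card_pos
  -- orders
  have c1 : Nat.card (Subgroup.center R) * Nat.card S = Nat.card R := by
    rw [← Nat.card_congr eS.toEquiv, mul_comm]
    exact (Subgroup.card_eq_card_quotient_mul_card_subgroup _).symm
  have c2 : R.index * Nat.card (Subgroup.center R) = 4 := by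
    have h3 := R.index_mul_card
    rw [← c1, hcard, ← mul_assoc] at h3
    exact Nat.eq_of_mul_eq_mul_right hSpos h3
  -- the image of `Γ`
  let π : R →* S := eS.toMonoidHom.comp (QuotientGroup.mk' (Subgroup.center R))
  have hπs : Function.Surjective π := eS.surjective.comp (QuotientGroup.mk'_surjective _)
  have hπk : ∀ s, π s = 1 ↔ s ∈ Subgroup.center R := by
    intro s
    show eS (QuotientGroup.mk s) = 1 ↔ _
    rw [EmbeddingLike.map_eq_one_iff, QuotientGroup.eq_one_iff]
  have hπker : π.ker = Subgroup.center R := by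
    ext s
    rw [MonoidHom.mem_ker, hπk]
  have d1 : Nat.card Γ ∣ Nat.card ((Γ.subgroupOf R).map π) * 16 := by
    have e1 : Nat.card (Γ ⊓ R : Subgroup G) * R.relIndex Γ = Nat.card Γ := by
      have h3 := Subgroup.card_mul_index (R.subgroupOf Γ)
      have h4 : Nat.card (R.subgroupOf Γ) = Nat.card (Γ ⊓ R : Subgroup G) := by
        rw [← Subgroup.inf_subgroupOf_left]
        exact Nat.card_congr (Subgroup.subgroupOfEquivOfLe inf_le_left).toEquiv
      rw [h4] at h3
      exact h3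
    have e2 : R.relIndex Γ ∣ R.index := Subgroup.relIndex_dvd_index_of_normal R Γ
    have e3 : R.index ∣ 4 := ⟨_, c2.symm⟩
    have e4 : Nat.card (Subgroup.center R) ∣ 4 := ⟨_, by rw [mul_comm]; exact c2.symm⟩
    have e5 : Nat.card (Γ ⊓ R : Subgroup G) = Nat.card (Γ.subgroupOf R) := by
      rw [← Subgroup.inf_subgroupOf_right]
      exact (Nat.card_congr (Subgroup.subgroupOfEquivOfLe inf_le_right).toEquiv).symm
    have e6 : Nat.card (Γ.subgroupOf R) ∣ Nat.card ((Γ.subgroupOf R).map π) * Nat.card (Subgroup.center R) := by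
      have h3 := (π.comp (Γ.subgroupOf R).subtype).ker.index_mul_card
      rw [Subgroup.index_ker, MonoidHom.range_comp, Subgroup.range_subtype] at h3
      rw [← h3]
      apply Nat.mul_dvd_mul_left
      have h4 : ((π.comp (Γ.subgroupOf R).subtype).ker).map (Γ.subgroupOf R).subtype ≤ Subgroup.center R := by
        rintro _ ⟨s, hs, rfl⟩
        exact (hπk _).1 hs
      have h5 := Subgroup.card_dvd_of_le h4
      rwa [Nat.card_congr (Subgroup.equivMapOfInjective _ _ (Subgroup.subtype_injective _)).toEquiv.symm] at h5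
    calc Nat.card Γ = Nat.card (Γ.subgroupOf R) * R.relIndex Γ := by rw [← e5, e1]
      _ ∣ (Nat.card ((Γ.subgroupOf R).map π) * 4) * 4 :=
        Nat.mul_dvd_mul (e6.trans (Nat.mul_dvd_mul_left _ e4)) (e2.trans e3)
      _ = _ := by ring
  have cop : ∀ s : ℕ, s.Prime → s ≠ 2 → ∀ k, Nat.Coprime (s ^ k) 16 := by
    intro s hs hs2 k
    have : (16 : ℕ) = 2 ^ 4 := by norm_num
    rw [this]
    exact Nat.Coprime.pow _ _ ((Nat.coprime_primes hs Nat.prime_two).2 hs2)
  have hH : (Γ.subgroupOf R).map π = ⊤ := by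
    apply hS
    · exact (cop p hp hp2 m).dvd_of_dvd_mul_right (h1.trans d1)
    · have := cop r hr hr2 1
      rw [pow_one] at this
      exact this.dvd_of_dvd_mul_right (h2.trans d1)
  have e5 : Nat.card (Γ ⊓ R : Subgroup G) = Nat.card (Γ.subgroupOf R) := by
    rw [← Subgroup.inf_subgroupOf_right]
    exact (Nat.card_congr (Subgroup.subgroupOfEquivOfLe inf_le_right).toEquiv).symm
  have h3 : Nat.card S ∣ Nat.card (Γ.subgroupOf R) := by
    have h4 := Subgroup.card_map_dvd (H := Γ.subgroupOf R) π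
    rwa [hH, Subgroup.card_top] at h4
  rw [← e5] at h3
  exact h3.trans (Subgroup.card_dvd_of_le inf_le_left)

end abs

section final

/-- the order of a large subgroup of `O_4^-(q)` -/
theorem card_four {F : Type} [Field F] [Fintype F] {V : Type} [AddCommGroup V] [Module F V]
    [FiniteDimensional F V] {Q : QuadraticForm F V} {p f : ℕ} {Γ : Subgroup (V ≃ₗ[F] V)} (hQ : Nondeg Q)
    (h4 : finrank F V = 4) (hpl : ¬ IsPlus Q) (hp : p.Prime) (hp2 : p ≠ 2) (hf : 1 ≤ f)
    (hF : Nat.card F = p ^ f) (h31 : 31 ≤ p ^ f) (hΓ : Γ ≤ O Q) {r : ℕ} (hr : PP p (f * 4) r)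
    (hd : r ∣ Nat.card Γ) (hv : f < (Nat.card Γ).factorization p) : ∃ e : ℕ, 2 * e = (p ^ f) ^ 2 * ((p ^ f) ^ 4 - 1) ∧ e ∣ Nat.card Γ ∧ Nat.card Γ ∣ 4 * e := by
  classical
  have hpF := Fact.mk hp
  obtain ⟨a, b, hab⟩ := exists_aniso_coeff F
  obtain ⟨e, he⟩ := exists_minus_equiv hab 1 Q hQ h4 hpl
  -- the isomorphism of groups
  let θ : ↥(O Q) ≃* ↥(Cfsg.isometryGroup F (Cfsg.quadFormMinus 1 F a b)) :=
    ((oEquiv e he).trans (isometryEquiv _).symm).trans
      (MulEquiv.subgroupCongr (by rw [LieClassical.QuadForms.coe_minusForm]))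
  have hcF : Fintype.card F = p ^ f := by rw [← Nat.card_eq_fintype_card, hF]
  -- the field with `q ^ 2` elements
  let K := GaloisField p (2 * f)
  have hKf : Fintype K := Fintype.ofFinite K
  have hK : Fintype.card K = (p ^ f) ^ 2 := by
    rw [← Nat.card_eq_fintype_card, GaloisField.card p (2 * f) (by omega), ← pow_mul, mul_comm]
  have hK' : Fintype.card K = p ^ (2 * f) := by
    rw [hK, ← pow_mul, mul_comm]
  obtain ⟨eS⟩ := S0300.result (K := K) hcF hK a b hab
  have hcG := S0288.result (F := F) hcF 2 (by norm_num) a b hab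
  have hc1 : Nat.card (Cfsg.isometryGroup F (Cfsg.quadFormMinus 1 F a b)) =
      4 * Nat.card (Matrix.ProjectiveSpecialLinearGroup (Fin 2) K) := by
    have c1 := ClassicalGeometry.PSL2Basic.card_PSL2_gcd K
    have hodd : Odd (p ^ f) := (hp.odd_of_ne_two hp2).pow
    have hgcd : Nat.gcd 2 ((p ^ f) ^ 2 - 1) = 2 := by
      apply Nat.gcd_eq_left
      obtain ⟨k, hk⟩ := hodd.pow (n := 2)
      exact ⟨k, by omega⟩
    rw [hK, hgcd] at c1
    have c2 : Nat.card (Cfsg.isometryGroup F (Cfsg.quadFormMinus 1 F a b)) =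
        2 * (p ^ f) ^ 2 * ((p ^ f) ^ 2 + 1) * ((p ^ f) ^ 2 - 1) := by
      have h4 : Nat.card (Cfsg.isometryGroup F (Cfsg.quadFormMinus 1 F a b)) = _ := hcG
      rw [h4, show (2 : ℕ) - 1 = 1 from rfl, Finset.prod_range_one, mul_one, zero_add, mul_one]
    have c3 : ((p ^ f) ^ 2) ^ 2 - 1 = ((p ^ f) ^ 2 + 1) * ((p ^ f) ^ 2 - 1) := by
      have := Nat.sq_sub_sq ((p ^ f) ^ 2) 1
      rwa [one_pow] at this
    rw [c3] at c1
    rw [c2]
    calc _ = 2 * ((p ^ f) ^ 2 * (((p ^ f) ^ 2 + 1) * ((p ^ f) ^ 2 - 1))) := by ring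
      _ = _ := by rw [← c1]; ring
  -- finiteness
  have hfG : Finite (Cfsg.isometryGroup F (Cfsg.quadFormMinus 1 F a b)) := inferInstance
  have hfO : Finite ↥(O Q) := Finite.of_equiv _ θ.symm.toEquiv
  -- the group
  let Γ₁ : Subgroup ↥(Cfsg.isometryGroup F (Cfsg.quadFormMinus 1 F a b)) := (Γ.subgroupOf (O Q)).map θ.toMonoidHom
  have hcΓ : Nat.card Γ₁ = Nat.card Γ := by
    rw [Nat.card_congr (Subgroup.equivMapOfInjective _ _ θ.injective).toEquiv.symm]
    exact Nat.card_congr (Subgroup.subgroupOfEquivOfLe hΓ).toEquiv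
  have hrf : f * 4 < r := hr.lt (by omega)
  have hcharF : CharP F p := by
    obtain ⟨c, hc⟩ := CharP.exists F
    have hcp : c.Prime := CharP.char_is_prime F c
    have hc2 := Fact.mk hcp
    obtain ⟨n, -, hn⟩ := FiniteField.card F c
    have h3 : c ∣ p ^ f := by
      rw [← hcF, hn]
      exact dvd_pow_self c n.ne_zero
    have h4 := hcp.dvd_of_dvd_pow h3
    rw [(Nat.prime_dvd_prime_iff_eq hcp hp).1 h4] at hc
    exact hc
  have hK4 : 4 ≤ Fintype.card K := by
    rw [hK]
    have := Nat.mul_le_mul h31 h31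
    rw [pow_two]
    omega
  have hΓ0 : Nat.card Γ ≠ 0 := by
    rw [← hcΓ]
    exact Nat.card_pos.ne'
  have hdvd : Nat.card (Matrix.ProjectiveSpecialLinearGroup (Fin 2) K) ∣ Nat.card Γ₁ := by
    refine dvd_of_large (R := Cfsg.Omega F (Cfsg.quadFormMinus 1 F a b)) (m := f + 1) eS hc1 
      hp hp2 hr.prime (by omega) ?_ ?_ ?_
    · intro H h1 h2
      refine top_of_large hp hp2 hf hK' h31 hr.prime (hr.not_dvd (by omega)) ?_ H h1 h2
      rw [hr.dvd_iff hp.one_lt.le]
      intro h3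
      have := Nat.le_of_dvd (by omega) h3
      omega
    · rw [hcΓ]
      exact (Nat.Prime.pow_dvd_iff_le_factorization hp hΓ0).2 hv
    · rw [hcΓ]
      exact hd
  refine ⟨Nat.card (Matrix.ProjectiveSpecialLinearGroup (Fin 2) K), ?_, by rw [← hcΓ]; exact hdvd, ?_⟩
  · have c1 := ClassicalGeometry.PSL2Basic.card_PSL2_gcd K
    have hodd : Odd (p ^ f) := (hp.odd_of_ne_two hp2).pow
    have hgcd : Nat.gcd 2 ((p ^ f) ^ 2 - 1) = 2 := by
      apply Nat.gcd_eq_left
      obtain ⟨k, hk⟩ := hodd.pow (n := 2)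
      exact ⟨k, by omega⟩
    rw [hK, hgcd] at c1
    have c5 : ((p ^ f) ^ 2) ^ 2 = (p ^ f) ^ 4 := by rw [← pow_mul]
    rw [mul_comm, c1, c5]
  · rw [← hcΓ, ← hc1]
    exact Subgroup.card_subgroup_dvd_card _

end final

section three

variable {F : Type} [Field F] [Fintype F] {V : Type} [AddCommGroup V] [Module F V] [FiniteDimensional F V]
  {Q : QuadraticForm F V} {K : Subgroup (V ≃ₗ[F] V)} {p f r a : ℕ} {y : V ≃ₗ[F] V}

/-- K2, without the order of `Ω_4^-(q)` (proof of helper198) -/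
theorem KD.three' (D : KD Q K p f r a y)
    (hK : ∀ g ∈ K, ∀ s ∈ fx (y : Module.End F V), g s ∈ fx (y : Module.End F V))
    (hirr : ∀ S ≤ fx (y : Module.End F V), (∀ g ∈ K, ∀ s ∈ S, g s ∈ S) → S = ⊥ ∨ S = fx (y : Module.End F V)) : False := by
  have hp := D.prime
  have := Fact.mk hp
  set W := fx (y : Module.End F V) with hW
  set C := cm (y : Module.End F V) with hC
  have hcompl : IsCompl W C := H951.isCompl_fx_cm D.iso.ne0 D.iso.pow
  have hKC : ∀ g ∈ K, ∀ s ∈ C, g s ∈ C := by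
    have h1 := D.perp_inv hK
    rwa [D.perp_fx'] at h1
  have hKfin : Finite K := inferInstance
  set φ := rs C K hKC with hφ
  set ρ := rs W K hK with hρ
  set N := φ.ker with hN
  -- an element of `N` trivial on `W` is trivial
  have htriv : ∀ g : K, g ∈ N → (∀ w ∈ W, (g : V ≃ₗ[F] V) w = w) → g = 1 := by
    intro g hg hgw
    have h1 : ∀ u ∈ C, (g : V ≃ₗ[F] V) u = u := (rs_eq_one hKC).1 hg
    apply Subtype.ext
    apply LinearEquiv.ext
    intro v
    have h2 : v ∈ W ⊔ C := by rw [hcompl.sup_eq_top]; trivial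
    obtain ⟨w, hw, c, hc, rfl⟩ := Submodule.mem_sup.1 h2
    rw [map_add, hgw w hw, h1 c hc]
    rfl
  set P := N.map ρ with hP
  have hinj : Nat.card P = Nat.card N := by
    have h1 : Function.Injective (ρ.comp N.subtype) := by
      rw [injective_iff_map_eq_one]
      intro g hg
      have h2 : ρ (g : K) = 1 := hg
      exact Subtype.ext (htriv g g.2 ((rs_eq_one hK).1 h2))
    have h2 : P = (ρ.comp N.subtype).range := by
      rw [hP, MonoidHom.range_comp, Subgroup.range_subtype]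
    rw [h2]
    exact (Nat.card_congr (MonoidHom.ofInjective h1).toEquiv).symm
  have hPO : P ≤ O (res Q W) := (Subgroup.map_le_range ρ N).trans (rs_range_le hK D.le)
  have hvN : (Nat.card N).factorization p ≤ f := by
    rw [← hinj]
    exact H198.Om7.three_vp hp D.pos D.card D.two_ne D.nd_fx D.fx3 hPO
  have hvR : f < (Nat.card φ.range).factorization p := by
    have h1 : (Nat.card N).factorization p + (Nat.card φ.range).factorization p = (Nat.card K).factorization p :=
      factorization_range φ p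
    have h2 := D.lo
    omega
  -- `r` divides the order of the range
  have hr : r ∣ Nat.card φ.range := by
    have := Fact.mk D.pp.prime
    let y' : K := ⟨y, D.mem⟩
    have h1 : φ y' ≠ 1 := by
      intro h1
      have h2 : y' = 1 := htriv y' h1 (fun w hw => H951.mem_fx.1 hw)
      exact D.ne (congrArg Subtype.val h2)
    have h2 : (φ y') ^ r = 1 := by
      rw [← map_pow]
      have h3 : y' ^ r = 1 := Subtype.ext D.pow
      rw [h3, map_one]
    have h3 : orderOf (⟨φ y', ⟨y', rfl⟩⟩ : φ.range) = r := by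
      apply orderOf_eq_prime
      · exact Subtype.ext h2
      · intro h4
        exact h1 (congrArg Subtype.val h4)
    rw [← h3]
    exact orderOf_dvd_natCard _
  obtain ⟨e, hq, ⟨t, ht⟩, h4⟩ := card_four D.nd_cm D.cm4 D.minus D.prime D.podd D.pos D.card D.h31 (rs_range_le hKC D.le) D.pp hr hvR
  obtain ⟨hnq, hn1⟩ := H198.Om7.three_num hp D.pos D.podd D.h31 (card_ker_mul φ) ht h4 hq D.ord D.lo Nat.card_pos.ne'
    Nat.card_pos.ne'
  have hNne : N ≠ ⊥ := by
    intro h
    apply hn1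
    rw [← hN, h, Subgroup.card_bot]
  have hPp : IsPGroup p P := by
    obtain ⟨j, -, hj⟩ := (Nat.dvd_prime_pow hp).1 hnq
    exact IsPGroup.of_card (hinj.trans hj)
  -- the fixed space of `N`
  let S : Submodule F V :=
    { carrier := {s | s ∈ W ∧ ∀ g ∈ N, (g : V ≃ₗ[F] V) s = s}
      add_mem' := fun {a b} ha hb => ⟨W.add_mem ha.1 hb.1, fun g hg => by rw [map_add, ha.2 g hg, hb.2 g hg]⟩
      zero_mem' := ⟨W.zero_mem, fun g _ => map_zero _⟩
      smul_mem' := fun c a ha => ⟨W.smul_mem c ha.1, fun g hg => by rw [map_smul, ha.2 g hg]⟩ }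
  have hSW : S ≤ W := fun s hs => hs.1
  have hSK : ∀ g ∈ K, ∀ s ∈ S, g s ∈ S := by
    intro g hg s hs
    refine ⟨hK g hg s hs.1, fun h hh => ?_⟩
    have h1 : (⟨g, hg⟩ : K)⁻¹ * h * (⟨g, hg⟩ : K) ∈ N := by
      have := (MonoidHom.normal_ker φ).conj_mem h hh (⟨g, hg⟩ : K)⁻¹
      rwa [inv_inv] at this
    have h2 := hs.2 _ h1
    have h3 : (g⁻¹ : V ≃ₗ[F] V) ((h : V ≃ₗ[F] V) (g s)) = s := h2
    have h5 : g ((g⁻¹ : V ≃ₗ[F] V) ((h : V ≃ₗ[F] V) (g s))) = (h : V ≃ₗ[F] V) (g s) := g.apply_symm_apply _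
    rw [← h5, h3]
  have hSeq : S = W := by
    rcases hirr S hSW hSK with h | h
    · exfalso
      have := H198.Om7.charP_of hp D.pos D.card
      rcases Cfsg.Agent.H830.Hex.exists_sing_fixed D.two_ne D.nd_fx hPO hPp with h1 | ⟨v, hv0, -, hv⟩
      · apply hn1
        rw [← hinj, h1, Subgroup.card_bot]
      · apply hv0
        have h2 : (v : V) ∈ S := ⟨v.2, fun g hg => by
          have := hv (ρ g) ⟨g, hg, rfl⟩
          rw [← rs_apply hK, this]⟩
        rw [h, Submodule.mem_bot] at h2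
        exact Subtype.ext h2
    · exact h
  apply hNne
  rw [eq_bot_iff]
  intro g hg
  rw [Subgroup.mem_bot]
  refine htriv g hg (fun w hw => ?_)
  have h1 : w ∈ S := by rw [hSeq]; exact hw
  exact h1.2 g hg


end three

end Cfsg.Agent.H430.Om7
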