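import Cfsg.Agent.H430.Om7.AsmA
import Cfsg.Agent.H430.Om7.Fill
import Cfsg.Agent.H430.Om7.Four
import Cfsg.Agent.H909.Om7.Small
import Cfsg.Agent.H830.Om7.Sing
import Cfsg.Agent.H449.Reg.OddRows

/-!
# S3691, `Ω_7(q)` : the row (helper430)
-/

set_option autoImplicit false
set_option linter.unusedSectionVars false

namespace Cfsg.Agent.H430.Om7

open Module QuadraticMap Cfsg Cfsg.Geo Cfsg.Agent.LieClassical.OrthCore Cfsg.Agent.LieClassical.OrthTrans
  Cfsg.Agent.H454.Reg Cfsg.Agent.H884.El Cfsg.Agent.H955 Cfsg.Agent.H954.TSing Cfsg.Agent.H193.Dg Cfsg.Agent.H851.Dg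
  Cfsg.Agent.H449.Reg Cfsg.Agent.H915.LD
open Cfsg.Agent.H951 (fx cm Inv)
open Cfsg.Agent.LieClassical.OrthForms (oddForm coe_oddForm)

universe u

section

variable {F : Type} [Field F] [Fintype F] {G : Type u} [Group G] [Finite G] {T : Subgroup G} [T.Normal]
  {hG : Good (oddForm 3 F)} {eT : T ≃* POmega F (⇑(oddForm 3 F))} {hI : Ind (eP hG eT)} {X Y : Subgroup G} {p f : ℕ}

/-- **`r_6` in `X`** -/
theorem side' (h : Ctx hI X Y p f 3) (hB : Boxes F p f) (h31 : 31 ≤ p ^ f) (h6 : Big T X p f 6) : ∃ v, ResB hI X 3 v := by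
  refine side h hB h31 h6 fun r a y D hc S hS0 hS hK => ?_
  refine D.false_of (fun S hS h1 hK => D.small hS h1 hK) (fun hK hirr => D.three' hK hirr) (fun u hu0 hu hK => ?_) hS0 hS hK
  exact D.sing hG hu0 hu hK linG_le (by rw [D.card]; exact hc) (linG_dis h)

/-- **`Ω_7(q)`** -/
theorem main (hk : H879.Nine.Known.{0}) (h : Ctx hI X Y p f 3) (h31 : 31 ≤ p ^ f) :
    (∃ v, ResB hI X 3 v) ∨ (∃ v, ResB hI Y 3 v) := by
  have hB : Boxes F p f := boxes hk h.prime h.podd h.pos h.card h31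
  rcases h.big_side (i := 3) (by norm_num) le_rfl (by norm_num) (hB.lp 6 (by norm_num)) with h6 | h6
  · exact Or.inl (side' h hB h31 h6)
  · exact Or.inr (side' h.symm hB h31 h6)

end

/-- **the row `Ω_7(q)` of S3691** -/
theorem seven (hk : H879.Nine.Known.{0}) : H449.Reg.Seven.{u} := fun h h31 => main hk h h31.le

end Cfsg.Agent.H430.Om7
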