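import Cfsg.Agent.H430.Om7.Box

/-!
# S3691, `Ω_7(q)`, Part I: both factors reducible, or `r_6` and `r_4` in a reducible factor (helper430)
-/

set_option autoImplicit false
set_option linter.unusedSectionVars false

namespace Cfsg.Agent.H430.Om7

open Module QuadraticMap Cfsg Cfsg.Geo Cfsg.Agent.LieClassical.OrthCore Cfsg.Agent.LieClassical.OrthTrans
  Cfsg.Agent.H454.Reg Cfsg.Agent.H884.El Cfsg.Agent.H955 Cfsg.Agent.H954.TSing Cfsg.Agent.H193.Dg Cfsg.Agent.H851.Dg
  Cfsg.Agent.H449.Reg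
open Cfsg.Agent.H951 (fx cm Inv)
open Cfsg.Agent.H278.Cov (Red Ext Num)
open Cfsg.Agent.LieClassical.OrthFinite (glEquiv glEquiv_apply)
open scoped MatrixGroups Matrix

universe u v

section norm

variable {F : Type v} [Field F] {V : Type*} [AddCommGroup V] [Module F V] {Q : QuadraticForm F V}

/-- a nondegenerate space of dimension at least 3 over a finite field represents everything -/
theorem exists_norm_three [Finite F] {W : Submodule F V} (hW : Nondeg (res Q W)) (h3 : 3 ≤ finrank F W) (c : F) :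
    ∃ w ∈ W, w ≠ 0 ∧ Q w = c := by
  obtain ⟨u, hu, hu0, hQu⟩ := LieClassical.OrthFinite.exists_sing_mem (Q := Q) W h3
  obtain ⟨⟨y, hy⟩, hy1⟩ := hW.exists_polar_eq (x := ⟨u, hu⟩) (fun h => hu0 (congrArg Subtype.val h)) 1
  have hy2 : polar Q u y = 1 := hy1
  refine ⟨y + (c - Q y) • u, W.add_mem hy (W.smul_mem _ hu), ?_, ?_⟩
  · intro h0
    have h1 : polar Q u (y + (c - Q y) • u) = 1 := by
      rw [polar_add_right, polar_smul_right, polar_self_of_sing hQu, hy2, smul_zero, add_zero]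
    rw [h0, polar_zero_right] at h1
    exact zero_ne_one h1
  · rw [Q_add, QuadraticMap.map_smul, hQu, polar_smul_right, polar_comm, hy2]
    simp

end norm

variable {ι : Type} [Fintype ι] [DecidableEq ι] {F : Type} [Field F] [Fintype F] {Q : QuadraticForm F (ι → F)}
variable {G : Type u} [Group G] [Finite G] {T : Subgroup G} [T.Normal] {hG : Good Q} {eT : T ≃* POmega F (⇑Q)}
  {hI : Ind (eP hG eT)} {X Y : Subgroup G} {p f : ℕ} {v : ι → F}

/-- a factor fixing a nonsingular point, and a reducible factor containing `r_4` -/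
theorem no_red_four (h : Ctx hI X Y p f 3) (hv : Q v ≠ 0) (hX : ∀ g ∈ X, act hI g (F ∙ v) = F ∙ v)
    (hB : Has T Y p f 4) (hred : Red (preG eT Y)) : False := by
  obtain ⟨s, hs', hd⟩ := hB
  obtain ⟨y, hy, ho⟩ := h.symm.elt1 hs' (by omega) (by omega) hd
  have hy1 := Ctx.ne_one hs'.prime ho
  have hys : y ^ s = 1 := by rw [← ho, pow_orderOf_eq_one]
  have hs := h.pp hs'
  have hn : Fintype.card ι < 2 * 4 := by rw [h.dim]; omega
  have hv0 : v ≠ 0 := by
    rintro rfl
    exact hv (QuadraticMap.map_zero Q)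
  obtain ⟨S, hS0, hS, hSY⟩ := red_fixed hI hs (by omega) hn hy hys hy1 hred
  have hlin : (lin y) ^ s = 1 := by rw [← H251.GeoCard.toLin_pow, hys]; exact lin_one
  obtain ⟨-, hcm, -, -⟩ := elt_data hs (by omega) hn hlin (lin_ne_one hy1)
  have hiso : Iso Q (lin y) s := Iso.mk' hs (by omega) hlin (lin_iso preG_le hy)
  obtain ⟨w, hw, hw0, hwv⟩ := exists_norm_three (nondeg_cm hG.nondeg hiso.iso hiso.ne0 hiso.pow) (by omega) (Q v)
  refine no_common hG hI h.fac hv0 hX hS0 hSY hw0 hwv fun s' hs' => ?_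
  have h1 : s' ∈ perp Q (cm (lin y)) := by
    rw [perp_cm hG.nondeg hiso.iso hiso.ne0 hiso.pow]
    exact hS hs'
  rw [polar_comm]
  exact h1 w hw

/-- prime powers dividing the order of the block -/
theorem pow_dvd_blk (h : Ctx hI X Y p f 3) (hv : Ctx.Pt hI X v) {k r a : ℕ} (hr : PP p (f * k) r) (hk : 2 ≤ k) (hmk : 7 < 2 * k)
    (hd : r ^ a ∣ Nat.card (X.subgroupOf T)) : r ^ a ∣ Nat.card (Ctx.blk eT X v) := by
  obtain ⟨g, hg, ho⟩ := h.elt hr hk (by omega) hd
  have hgv := hv.fix_of_odd h.two_ne hg (by rw [ho]; exact h.odd_of_pp hr hk a)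
  have h1 := Ctx.orderOf_rst h.two_ne hv.ne hgv (hv.le_perp hg)
  have h2 := rst_mem (hv.le_perp hg) hg
  have h3 : orderOf (⟨_, h2⟩ : resG (perp Q (F ∙ v)) (preG eT X)) = r ^ a := by
    rw [← ho, ← h1, ← Subgroup.orderOf_coe]
  rw [← h3]
  exact orderOf_dvd_natCard _

/-- **`r_6` and `r_4` in a factor fixing a minus point** -/
theorem resB_of_pt (h : Ctx hI X Y p f 3) (hX : Boxes F p f) (hv : Ctx.Pt hI X v) (h6 : Big T X p f 6) (h4 : Big T X p f 4) :
    ResB hI X 3 v := by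
  obtain ⟨r, a, hr, hb, -, hd⟩ := h4
  obtain ⟨s, b, hs, hb', -, hd'⟩ := h6
  have hU := h.finrank_U hv
  have hnd : Nondeg (res Q (perp Q (F ∙ v))) := nondeg_perp hG.nondeg (Ctx.nondeg_line h.two_ne hv.ne)
  have h1 := (hX.sixm hnd hU hv.minus (resG_le_O (U := perp Q (F ∙ v)) (preG_le (eT := eT) (X := X))) hr (by omega)
    (pow_dvd_blk h hv hr (by omega) (by omega) hd)).2 s b hs (by omega) (pow_dvd_blk h hv hs (by omega) (by omega) hd')
  have hGU : Good (res Q (perp Q (F ∙ v))) := LieClassical.OrthFinite.good_of_finite hnd (by rw [hU]; omega)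
  exact ⟨h.dim, hv.ne, hv.minus, hv.fix, fun u w hu hw huv hwv =>
    sieg_of hv.ne h.two_ne preG_le (fun g hg => hv.sgn hg) hGU h1 hu hw huv hwv⟩

end Cfsg.Agent.H430.Om7
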