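import Cfsg.Agent.H430.Om7.KD
import Cfsg.Agent.H430.Om7.PartI
import Cfsg.Agent.H72.Om7.BoundA
import Cfsg.Agent.H198.Om7.CaseB

/-!
# S3691, `Ω_7(q)`: assembly (helper430)
-/

set_option autoImplicit false
set_option linter.unusedSectionVars false

namespace Cfsg.Agent.H430.Om7

open Module QuadraticMap Cfsg Cfsg.Geo Cfsg.Agent.LieClassical.OrthCore Cfsg.Agent.LieClassical.OrthTrans
  Cfsg.Agent.H454.Reg Cfsg.Agent.H884.El Cfsg.Agent.H955 Cfsg.Agent.H954.TSing Cfsg.Agent.H193.Dg Cfsg.Agent.H851.Dg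
  Cfsg.Agent.H449.Reg Cfsg.Agent.H915.LD
open Cfsg.Agent.H951 (fx cm Inv)
open Cfsg.Agent.H278.Cov (Red Ext Num)
open Cfsg.Agent.LieClassical.OrthFinite (glEquiv glEquiv_apply map_isometryGroup)
open Cfsg.Agent.LieClassical.OrthForms (oddForm coe_oddForm)
open Cfsg.Agent.AutOrth.Main (oe pe oe_apply pe_mk)
open scoped MatrixGroups Matrix

universe u

section abs

variable {F : Type} [Field F] [Fintype F] {V : Type} [AddCommGroup V] [Module F V] [FiniteDimensional F V]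
  {Q : QuadraticForm F V} {K : Subgroup (V ≃ₗ[F] V)} {p f r a : ℕ} {y : V ≃ₗ[F] V}

/-- the three endings -/
theorem KD.false_of (D : KD Q K p f r a y)
    (k1 : ∀ S : Submodule F V, Nondeg (res Q S) → (finrank F S = 1 ∨ finrank F S = 2) → (∀ g ∈ K, ∀ s ∈ S, g s ∈ S) → False)
    (k2 : (∀ g ∈ K, ∀ s ∈ fx (y : Module.End F V), g s ∈ fx (y : Module.End F V)) →
      (∀ S ≤ fx (y : Module.End F V), (∀ g ∈ K, ∀ s ∈ S, g s ∈ S) → S = ⊥ ∨ S = fx (y : Module.End F V)) → False)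
    (k3 : ∀ u : V, u ≠ 0 → Q u = 0 → (∀ g ∈ K, ∃ c : F, g u = c • u) → False)
    {S₀ : Submodule F V} (h0 : S₀ ≠ ⊥) (hS₀ : S₀ ≤ fx (y : Module.End F V)) (hK : ∀ g ∈ K, ∀ s ∈ S₀, g s ∈ S₀) : False := by
  classical
  have hex : ∃ d : ℕ, ∃ S : Submodule F V, S ≠ ⊥ ∧ S ≤ fx (y : Module.End F V) ∧ (∀ g ∈ K, ∀ s ∈ S, g s ∈ S) ∧
      finrank F S = d := ⟨_, S₀, h0, hS₀, hK, rfl⟩
  obtain ⟨S, hS0, hS, hSK, hSd⟩ := Nat.find_spec hex
  have hmin : ∀ W : Submodule F V, W ≤ S → (∀ g ∈ K, ∀ s ∈ W, g s ∈ W) → W = ⊥ ∨ W = S := by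
    intro W hW hWK
    by_cases hW0 : W = ⊥
    · exact Or.inl hW0
    · right
      have h1 := Nat.find_min' hex ⟨W, hW0, hW.trans hS, hWK, rfl⟩
      exact Submodule.eq_of_le_of_finrank_le hW (by rw [hSd]; exact h1)
  have hd0 : finrank F S ≠ 0 := fun h => hS0 (Submodule.finrank_eq_zero.1 h)
  have hd3 : finrank F S ≤ 3 := by rw [← D.fx3]; exact Submodule.finrank_mono hS
  rcases (by omega : finrank F S = 1 ∨ finrank F S = 2 ∨ finrank F S = 3) with h1 | h1 | h1
  · obtain ⟨s, hs, hs0⟩ := Submodule.exists_mem_ne_zero_of_ne_bot hS0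
    have h2 : F ∙ s = S := Submodule.eq_of_le_of_finrank_eq ((Submodule.span_singleton_le_iff_mem s S).2 hs)
      (by rw [h1, finrank_span_singleton hs0])
    by_cases hQ : Q s = 0
    · refine k3 s hs0 hQ fun g hg => ?_
      have h3 := hSK g hg s hs
      rw [← h2] at h3
      obtain ⟨c, hc⟩ := Submodule.mem_span_singleton.1 h3
      exact ⟨c, hc.symm⟩
    · refine k1 S ?_ (Or.inl h1) hSK
      rw [← h2, nondeg_res_iff]
      intro x hx hxy
      obtain ⟨c, rfl⟩ := Submodule.mem_span_singleton.1 hx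
      have h4 := hxy s (Submodule.mem_span_singleton_self s)
      rw [polar_smul_left, polar_self', smul_eq_mul] at h4
      rcases mul_eq_zero.1 h4 with h5 | h5
      · rw [h5, zero_smul]
      · exact absurd h5 (mul_ne_zero D.two_ne hQ)
  · rcases hmin (S ⊓ perp Q S) inf_le_left (fun g hg s hs => ⟨hSK g hg s hs.1, D.perp_inv hSK g hg s hs.2⟩) with h2 | h2
    · refine k1 S ?_ (Or.inr h1) hSK
      rw [nondeg_res_iff]
      intro x hx hxy
      have h3 : x ∈ S ⊓ perp Q S := ⟨hx, fun u hu => by rw [polar_comm]; exact hxy u hu⟩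
      rw [h2] at h3
      exact (Submodule.mem_bot F).1 h3
    · have h3 : TS Q S := by
        intro s hs
        have h4 : s ∈ perp Q S := by rw [← h2] at hs; exact hs.2
        have h5 := h4 s hs
        rw [polar_self'] at h5
        exact (mul_eq_zero.1 h5).resolve_left D.two_ne
      have h4 := ts_le_half D.nd_fx hS h3
      rw [D.fx3] at h4
      omega
  · have h2 : S = fx (y : Module.End F V) := Submodule.eq_of_le_of_finrank_eq hS (by rw [D.fx3, h1])
    exact k2 (by rw [← h2]; exact hSK) (fun W hW hWK => by rw [← h2]; exact hmin W (by rw [h2]; exact hW) hWK)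

end abs

section row

variable {F : Type} [Field F] [Fintype F] {G : Type u} [Group G] [Finite G] {T : Subgroup G} [T.Normal]
  {hG : Good (oddForm 3 F)} {eT : T ≃* POmega F (⇑(oddForm 3 F))} {hI : Ind (eP hG eT)} {X Y : Subgroup G} {p f : ℕ}

/-- the group of linear maps -/
noncomputable def linG (eT : T ≃* POmega F (⇑(oddForm 3 F))) (X : Subgroup G) :
    Subgroup ((Unit ⊕ (Fin 3 ⊕ Fin 3) → F) ≃ₗ[F] (Unit ⊕ (Fin 3 ⊕ Fin 3) → F)) :=
  (preG eT X).map (glEquiv (Unit ⊕ (Fin 3 ⊕ Fin 3)) F).toMonoidHom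

theorem card_linG : Nat.card (linG eT X) = Nat.card (preG eT X) :=
  Subgroup.card_map_of_injective (glEquiv (Unit ⊕ (Fin 3 ⊕ Fin 3)) F).injective

theorem linG_le : linG eT X ≤ O (oddForm 3 F) := by
  rw [← map_isometryGroup]
  exact Subgroup.map_mono preG_le

theorem linG_dis (h : Ctx hI X Y p f 3) : ∀ t ∈ E (oddForm 3 F), ∀ x ∈ linG eT X, t * x * t⁻¹ ∈ linG eT Y → x = 1 := by
  rintro t ht _ ⟨x, hx, rfl⟩ ⟨z, hz, hzx⟩
  obtain ⟨x, rfl, hx'⟩ := exists_of_mem_preG hx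
  obtain ⟨z, rfl, hz'⟩ := exists_of_mem_preG hz
  obtain ⟨s, hs⟩ := (oe hG).surjective ⟨t, ht⟩
  have hzx' : z = s * x * s⁻¹ := by
    apply (oe hG).injective
    apply Subtype.ext
    rw [map_mul, map_mul, map_inv, hs]
    exact hzx
  have h1 : ((eT.symm (QuotientGroup.mk z) : T) : G) =
      ((eT.symm (QuotientGroup.mk s) : T) : G) * ((eT.symm (QuotientGroup.mk x) : T) : G) * ((eT.symm (QuotientGroup.mk s) : T) : G)⁻¹ := by
    rw [hzx', QuotientGroup.mk_mul, QuotientGroup.mk_mul, QuotientGroup.mk_inv, map_mul, map_mul, map_inv]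
    rfl
  rw [h1] at hz'
  have h2 := h.fac.not_conj hx' _ hz'
  have h3 : eT.symm (QuotientGroup.mk x) = 1 := Subtype.ext h2
  have h4 : (QuotientGroup.mk x : POmega F (⇑(oddForm 3 F))) = 1 := by
    rw [← eT.apply_symm_apply (QuotientGroup.mk x), h3, map_one]
  rw [QuotientGroup.eq_one_iff, center_odd7 h.two_ne, Subgroup.mem_bot] at h4
  rw [h4]
  exact map_one (glEquiv (Unit ⊕ (Fin 3 ⊕ Fin 3)) F)

/-- **the reducible factor containing `r_4`** -/
theorem red_false (h : Ctx hI X Y p f 3) (hB : Boxes F p f) (h31 : 31 ≤ p ^ f) (h4 : Big T Y p f 4) (hred : Red (preG eT Y))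
    (hlo : 2 * f < (Nat.card (preG eT Y)).factorization p)
    (hhi : (Nat.card (preG eT Y)).factorization p ≤ 3 * f)
    (hord : 2 * Nat.card (preG eT Y) ∣ (p ^ f) ^ 3 * ((p ^ f) ^ 4 - 1))
    (hend : ∀ r a y, KD (oddForm 3 F) (linG eT Y) p f r a y →
      ∀ S : Submodule F (Unit ⊕ (Fin 3 ⊕ Fin 3) → F), S ≠ ⊥ → S ≤ fx (y : Module.End F (Unit ⊕ (Fin 3 ⊕ Fin 3) → F)) →
      (∀ g ∈ linG eT Y, ∀ s ∈ S, g s ∈ S) → False) : False := by
  obtain ⟨r, a, hr, hb, -, hd⟩ := h4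
  have ha : a ≠ 0 := by
    rintro rfl
    rw [pow_zero] at hb
    omega
  obtain ⟨y, hy, ho⟩ := h.symm.elt1 hr (by omega) (by omega) ((dvd_pow_self r ha).trans hd)
  have hy1 := Ctx.ne_one hr.prime ho
  have hyr : y ^ r = 1 := by rw [← ho, pow_orderOf_eq_one]
  obtain ⟨S, hS0, hS, hSY⟩ := red_fixed hI (h.pp hr) (by norm_num) (by rw [h.dim]; norm_num) hy hyr hy1 hred
  have hSt : preG eT Y ≤ subspaceStabilizer S := (inv0_iff hG).1 fun t ht => hSY _ ht
  refine hend r a (glEquiv _ F y)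
    { boxes := hB, nd := hG.nondeg
      dim := by rw [Module.finrank_fintype_fun_eq_card, h.dim]
      prime := h.prime, podd := h.podd, pos := h.pos, card := h.card, h31 := h31, le := linG_le, pp := hr
      big := by omega
      dvd := by rw [card_linG]; exact hd.trans card_dvd_preG
      lo := by rw [card_linG]; exact hlo
      hi := by rw [card_linG]; exact hhi
      ord := by rw [card_linG]; exact hord
      mem := ⟨y, hy, rfl⟩
      pow := by rw [← map_pow, hyr, map_one]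
      ne := fun h1 => hy1 ((glEquiv _ F).injective (h1.trans (map_one _).symm)) } S hS0 hS ?_
  rintro _ ⟨g, hg, rfl⟩ s hs
  exact H884.OmegaGL.mem_subspaceStabilizer.1 (hSt hg) s hs

theorem acts_of_not_red {H : Subgroup (GL (Unit ⊕ (Fin 3 ⊕ Fin 3)) F)} (hred : ¬ Red H) : ActsIrreducibly (matrixSet H) := by
  intro W hW
  by_contra hcon
  push Not at hcon
  refine hred ⟨W, hcon.1, hcon.2, fun g hg => H884.OmegaGL.mem_subspaceStabilizer.2 fun w hw => ?_⟩
  exact hW _ ⟨g, hg, rfl⟩ ⟨w, hw, rfl⟩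

/-- `r_4` in an irreducible factor: impossible -/
theorem irr_four_false (h : Ctx hI X Y p f 3) (hB : Boxes F p f) (h4 : Big T X p f 4) (hred : ¬ Red (preG eT X)) : False := by
  obtain ⟨r, a, hr, hb, -, hd⟩ := h4
  have h1 := preG_le_omega (eT := eT) (X := X)
  have h2 := not_omega_le (eT := eT) (X := X) h.fac.not_le_left
  rw [coe_oddForm] at h1 h2
  exact hB.irr_four h1 h2 (acts_of_not_red hred) hr (by omega) (hd.trans card_dvd_preG)

/-- **`r_6` in `X`** -/
theorem side (h : Ctx hI X Y p f 3) (hB : Boxes F p f) (h31 : 31 ≤ p ^ f) (h6 : Big T X p f 6)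
    (hend : ∀ r a y, KD (oddForm 3 F) (linG eT Y) p f r a y → (p ^ f) ^ 6 ∣ Nat.card (linG eT X) →
      ∀ S : Submodule F (Unit ⊕ (Fin 3 ⊕ Fin 3) → F), S ≠ ⊥ → S ≤ fx (y : Module.End F (Unit ⊕ (Fin 3 ⊕ Fin 3) → F)) →
      (∀ g ∈ linG eT Y, ∀ s ∈ S, g s ∈ S) → False) : ∃ v, ResB hI X 3 v := by
  have h44 := h.big_side (i := 2) (by norm_num) (by norm_num) (by norm_num) (hB.lp 4 (by norm_num))
  by_cases hred : Red (preG eT X)
  · obtain ⟨v, hv⟩ := h.pt_of_red (by norm_num) h6.has hred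
    rcases h44 with h4 | h4
    · exact ⟨v, resB_of_pt h hB hv h6 h4⟩
    · exfalso
      by_cases hredY : Red (preG eT Y)
      · exact no_red_four h hv.ne hv.fix h4.has hredY
      · exact irr_four_false h.symm hB h4 hredY
  · exfalso
    have h4 : Big T Y p f 4 := h44.resolve_left fun h4 => irr_four_false h hB h4 hred
    have hredY : Red (preG eT Y) := by
      by_contra hcon
      exact irr_four_false h.symm hB h4 hcon
    obtain ⟨r, a, hr, hb, -, hd⟩ := h6
    have h1 := preG_le_omega (eT := eT) (X := X)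
    have h2 := not_omega_le (eT := eT) (X := X) h.fac.not_le_left
    rw [coe_oddForm] at h1 h2
    obtain ⟨P, hP, h3 | ⟨h3, h5⟩⟩ := hB.irr_six h1 h2 (acts_of_not_red hred) hr (by omega) (hd.trans card_dvd_preG)
    · obtain ⟨hc, hlo, hhi, hord⟩ := bound_a h h31 hP h3
      exact red_false h hB h31 h4 hredY hlo hhi hord fun r a y D S => hend r a y D (by rw [card_linG]; exact hc) S
    · exact case_b h hB h31 hP h3 h5 h4 hredY

end row

end Cfsg.Agent.H430.Om7
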