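import Cfsg.Agent.H449.Reg.OddRow
import Cfsg.Agent.H915.LD

/-!
# S3691, `Ω_7(q)`, `q ≥ 31` odd: the statements of the boxes (helper430)
-/

set_option autoImplicit false

namespace Cfsg.Agent.H430.Om7

open Module QuadraticMap Cfsg Cfsg.Geo Cfsg.Agent.LieClassical.OrthCore Cfsg.Agent.LieClassical.OrthTrans
  Cfsg.Agent.H884.El Cfsg.Agent.H915.LD Cfsg.Agent.H955 Cfsg.Agent.H954.TSing
open Cfsg.Agent.LieClassical.OrthFinite (glEquiv)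
open scoped MatrixGroups Matrix

/-- the boxes for the field `F`, `|F| = p ^ f` -/
structure Boxes (F : Type) [Field F] [Fintype F] (p f : ℕ) : Prop where
  lp : ∀ k, k = 3 ∨ k = 4 ∨ k = 6 → ∃ r a, PP p (f * k) r ∧ 2 * k + 1 < r ^ a ∧ r ^ a ∣ (p ^ f) ^ k - 1
  irr_six : ∀ {H : Subgroup (GL (Unit ⊕ (Fin 3 ⊕ Fin 3)) F)}, H ≤ omegaGL (quadFormOdd 3 F) →
    ¬ omegaGL (quadFormOdd 3 F) ≤ H → ActsIrreducibly (matrixSet H) → ∀ {r a : ℕ}, PP p (f * 6) r → 13 < r ^ a →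
    r ^ a ∣ Nat.card H → ∃ P, IsResidualCore H P ∧ (Nonempty (Soc P ≃* Lie.chevG2.group F) ∨
      ((p ^ f) ^ 3 * ((p ^ f) ^ 3 + 1) * (p ^ f - 1) ≤ Nat.card P ∧ ∀ s, PP p (f * 3) s → ¬ s ∣ Nat.card H))
  irr_four : ∀ {H : Subgroup (GL (Unit ⊕ (Fin 3 ⊕ Fin 3)) F)}, H ≤ omegaGL (quadFormOdd 3 F) →
    ¬ omegaGL (quadFormOdd 3 F) ≤ H → ActsIrreducibly (matrixSet H) → ∀ {r a : ℕ}, PP p (f * 4) r → 9 < r ^ a →
    r ^ a ∣ Nat.card H → False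
  four : ∀ {V : Type} [AddCommGroup V] [Module F V] [FiniteDimensional F V] {Q : QuadraticForm F V} {Γ : Subgroup (V ≃ₗ[F] V)},
    Nondeg Q → finrank F V = 4 → ¬ IsPlus Q → Γ ≤ O Q → ∀ {r : ℕ}, PP p (f * 4) r → r ∣ Nat.card Γ →
    f < (Nat.card Γ).factorization p → E Q ≤ Γ
  five : ∀ {V : Type} [AddCommGroup V] [Module F V] [FiniteDimensional F V] {Q : QuadraticForm F V} {Γ : Subgroup (V ≃ₗ[F] V)},
    Nondeg Q → finrank F V = 5 → Γ ≤ O Q → ∀ {r a : ℕ}, PP p (f * 4) r → 9 < r ^ a → r ^ a ∣ Nat.card Γ →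
    (Nat.card Γ).factorization p ≤ 2 * f ∨ 4 * f ≤ (Nat.card Γ).factorization p
  sixp : ∀ {V : Type} [AddCommGroup V] [Module F V] [FiniteDimensional F V] {Q : QuadraticForm F V} {Γ : Subgroup (V ≃ₗ[F] V)},
    Nondeg Q → finrank F V = 6 → IsPlus Q → Γ ≤ O Q → ∀ {r a : ℕ}, PP p (f * 4) r → 9 < r ^ a → r ^ a ∣ Nat.card Γ →
    ((Nat.card Γ).factorization p ≤ 2 * f ∨ 4 * f ≤ (Nat.card Γ).factorization p) ∧
      ∀ s b, PP p (f * 3) s → 7 < s ^ b → s ^ b ∣ Nat.card Γ → E Q ≤ Γ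
  sixm : ∀ {V : Type} [AddCommGroup V] [Module F V] [FiniteDimensional F V] {Q : QuadraticForm F V} {Γ : Subgroup (V ≃ₗ[F] V)},
    Nondeg Q → finrank F V = 6 → ¬ IsPlus Q → Γ ≤ O Q → ∀ {r a : ℕ}, PP p (f * 4) r → 9 < r ^ a → r ^ a ∣ Nat.card Γ →
    ((Nat.card Γ).factorization p ≤ 2 * f ∨ 4 * f ≤ (Nat.card Γ).factorization p) ∧
      ∀ s b, PP p (f * 6) s → 13 < s ^ b → s ^ b ∣ Nat.card Γ → E Q ≤ Γ

end Cfsg.Agent.H430.Om7
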