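import Cfsg.Agent.H430.Om7.Box
import Cfsg.Agent.H884.ElRows

/-!
# S3691, `Ω_7(q)`: the reducible factor `K` containing `r_4` (helper430)

* `KD Q K p f r a y` : the numerical information on the group `K` of isometries, `y ∈ K` of order `r`
* `rs`, `rsG` : restriction to an invariant subspace
-/

set_option autoImplicit false
set_option linter.unusedSectionVars false

namespace Cfsg.Agent.H430.Om7

open Module QuadraticMap Cfsg Cfsg.Geo Cfsg.Agent.LieClassical.OrthCore Cfsg.Agent.LieClassical.OrthTrans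
  Cfsg.Agent.H884.El Cfsg.Agent.H955 Cfsg.Agent.H954.TSing
open Cfsg.Agent.H951 (fx cm Inv)

variable {F : Type} [Field F] [Fintype F] {V : Type} [AddCommGroup V] [Module F V] [FiniteDimensional F V]

/-- the reducible factor -/
structure KD (Q : QuadraticForm F V) (K : Subgroup (V ≃ₗ[F] V)) (p f r a : ℕ) (y : V ≃ₗ[F] V) : Prop where
  boxes : Boxes F p f
  nd : Nondeg Q
  dim : finrank F V = 7
  prime : p.Prime
  podd : p ≠ 2
  pos : 1 ≤ f
  card : Nat.card F = p ^ f
  h31 : 31 ≤ p ^ f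
  le : K ≤ O Q
  pp : PP p (f * 4) r
  big : 9 < r ^ a
  dvd : r ^ a ∣ Nat.card K
  lo : 2 * f < (Nat.card K).factorization p
  hi : (Nat.card K).factorization p ≤ 3 * f
  ord : 2 * Nat.card K ∣ (p ^ f) ^ 3 * ((p ^ f) ^ 4 - 1)
  mem : y ∈ K
  pow : y ^ r = 1
  ne : y ≠ 1

section restr

variable {U : Submodule F V} {K : Subgroup (V ≃ₗ[F] V)}

/-- restriction to an invariant subspace -/
noncomputable def rs (U : Submodule F V) (K : Subgroup (V ≃ₗ[F] V)) (hU : ∀ g ∈ K, ∀ u ∈ U, g u ∈ U) : K →* (U ≃ₗ[F] U) where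
  toFun g :=
    { toFun := fun u => ⟨(g : V ≃ₗ[F] V) u, hU g g.2 u u.2⟩
      map_add' := fun a b => Subtype.ext (map_add (g : V ≃ₗ[F] V) (a : V) b)
      map_smul' := fun c a => Subtype.ext (map_smul (g : V ≃ₗ[F] V) c (a : V))
      invFun := fun u => ⟨((g : V ≃ₗ[F] V)⁻¹ : V ≃ₗ[F] V) u, hU _ (K.inv_mem g.2) u u.2⟩
      left_inv := fun u => Subtype.ext ((g : V ≃ₗ[F] V).symm_apply_apply u)
      right_inv := fun u => Subtype.ext ((g : V ≃ₗ[F] V).apply_symm_apply u) }
  map_one' := rfl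
  map_mul' _ _ := rfl

theorem rs_apply (hU : ∀ g ∈ K, ∀ u ∈ U, g u ∈ U) (g : K) (u : U) : ((rs U K hU g u : U) : V) = (g : V ≃ₗ[F] V) u := rfl

theorem rs_eq_one (hU : ∀ g ∈ K, ∀ u ∈ U, g u ∈ U) {g : K} : rs U K hU g = 1 ↔ ∀ u ∈ U, (g : V ≃ₗ[F] V) u = u := by
  constructor
  · intro h u hu
    rw [← rs_apply hU g ⟨u, hu⟩, h]
    rfl
  · intro h
    apply LinearEquiv.ext
    intro u
    exact Subtype.ext (h u u.2)

theorem rs_range_le (hU : ∀ g ∈ K, ∀ u ∈ U, g u ∈ U) {Q : QuadraticForm F V} (hK : K ≤ O Q) : (rs U K hU).range ≤ O (res Q U) := by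
  rintro _ ⟨g, rfl⟩ u
  exact hK g.2 u

end restr

instance finite_GLV : Finite (V ≃ₗ[F] V) := by
  have : Finite V := Module.finite_of_finite F
  exact Finite.of_injective (fun e : V ≃ₗ[F] V => (e : V → V)) DFunLike.coe_injective

/-- orders and homomorphisms -/
theorem card_ker_mul {G : Type*} [Group G] [Finite G] {H : Type*} [Group H] (φ : G →* H) :
    Nat.card φ.ker * Nat.card φ.range = Nat.card G := by
  rw [← Subgroup.card_mul_index φ.ker, Subgroup.index_ker]

theorem factorization_range {G : Type*} [Group G] [Finite G] {H : Type*} [Group H] (φ : G →* H) (l : ℕ) :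
    (Nat.card φ.ker).factorization l + (Nat.card φ.range).factorization l = (Nat.card G).factorization l := by
  have h1 : Finite φ.range := Set.finite_range φ |>.to_subtype
  rw [← card_ker_mul φ, Nat.factorization_mul Nat.card_pos.ne' Nat.card_pos.ne']
  rfl

namespace KD

variable {Q : QuadraticForm F V} {K : Subgroup (V ≃ₗ[F] V)} {p f r a : ℕ} {y : V ≃ₗ[F] V}

theorem pq (D : KD Q K p f r a y) : PP (Nat.card F) 4 r := by
  rw [D.card]; exact D.pp.of_pow D.pos

theorem two_ne (D : KD Q K p f r a y) : (2 : F) ≠ 0 := by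
  intro h2
  have h3 : ((2 : ℕ) : F) = 0 := by exact_mod_cast h2
  obtain ⟨c, hc⟩ := CharP.exists F
  obtain ⟨n, hn, hn'⟩ := FiniteField.card F c
  have h4 : c ∣ 2 := (CharP.cast_eq_zero_iff F c 2).1 h3
  have h5 : c = 2 := (Nat.prime_dvd_prime_iff_eq hn Nat.prime_two).1 h4
  rw [← Nat.card_eq_fintype_card, D.card] at hn'
  have h6 : p ∣ c ^ (n : ℕ) := by rw [← hn']; exact dvd_pow_self p (by have := D.pos; omega)
  have h7 : p = c := (Nat.prime_dvd_prime_iff_eq D.prime hn).1 (D.prime.dvd_of_dvd_pow h6)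
  exact D.podd (h7.trans h5)

theorem isoOf (D : KD Q K p f r a y) {g : V ≃ₗ[F] V} (hg : g ∈ K) (hr : g ^ r = 1) : Iso Q (g : Module.End F V) r :=
  Iso.mk' D.pq (by norm_num) (coe_pow_eq_one hr) (fun v => D.le hg v)

theorem coe_ne {g : V ≃ₗ[F] V} (hg : g ≠ 1) : (g : Module.End F V) ≠ 1 := by
  intro h
  apply hg
  apply LinearEquiv.ext
  intro v
  exact congrArg (fun e : Module.End F V => e v) h

theorem cmOf (D : KD Q K p f r a y) {g : V ≃ₗ[F] V} (hg : g ∈ K) (hr : g ^ r = 1) (h1 : g ≠ 1) :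
    finrank F (cm (g : Module.End F V)) = 4 ∧ ¬ IsPlus (res Q (cm (g : Module.End F V))) :=
  (D.isoOf hg hr).even_case D.nd (coe_ne h1) D.pq (by decide) (by rw [D.dim]; norm_num)

theorem iso (D : KD Q K p f r a y) : Iso Q (y : Module.End F V) r := D.isoOf D.mem D.pow

theorem cm4 (D : KD Q K p f r a y) : finrank F (cm (y : Module.End F V)) = 4 := (D.cmOf D.mem D.pow D.ne).1

theorem minus (D : KD Q K p f r a y) : ¬ IsPlus (res Q (cm (y : Module.End F V))) := (D.cmOf D.mem D.pow D.ne).2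

theorem fx3 (D : KD Q K p f r a y) : finrank F (fx (y : Module.End F V)) = 3 := by
  have h1 := D.iso.finrank_add
  have h2 := D.cm4
  have h3 := D.dim
  omega

theorem nd_cm (D : KD Q K p f r a y) : Nondeg (res Q (cm (y : Module.End F V))) := nondeg_cm D.nd D.iso.iso D.iso.ne0 D.iso.pow

theorem nd_fx (D : KD Q K p f r a y) : Nondeg (res Q (fx (y : Module.End F V))) := nondeg_fx D.nd D.iso.iso D.iso.ne0 D.iso.pow

theorem perp_cm' (D : KD Q K p f r a y) : perp Q (cm (y : Module.End F V)) = fx (y : Module.End F V) :=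
  perp_cm D.nd D.iso.iso D.iso.ne0 D.iso.pow

theorem perp_fx' (D : KD Q K p f r a y) : perp Q (fx (y : Module.End F V)) = cm (y : Module.End F V) :=
  perp_fx D.nd D.iso.iso D.iso.ne0 D.iso.pow

/-- an invariant subspace lies in the fixed space of `y` or contains the commutator space -/
theorem le_or (D : KD Q K p f r a y) {W : Submodule F V} (hW : ∀ g ∈ K, ∀ w ∈ W, g w ∈ W) :
    W ≤ fx (y : Module.End F V) ∨ cm (y : Module.End F V) ≤ W :=
  D.iso.le_or D.pq D.cm4 (fun w hw => hW y D.mem w hw)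

/-- the complement of an invariant subspace is invariant -/
theorem perp_inv (D : KD Q K p f r a y) {W : Submodule F V} (hW : ∀ g ∈ K, ∀ w ∈ W, g w ∈ W) :
    ∀ g ∈ K, ∀ w ∈ perp Q W, g w ∈ perp Q W := by
  intro g hg w hw u hu
  have h1 : (g⁻¹ : V ≃ₗ[F] V) u ∈ W := hW _ (K.inv_mem hg) u hu
  have h2 : g ((g⁻¹ : V ≃ₗ[F] V) u) = u := g.apply_symm_apply u
  rw [← h2, polar_map (D.le hg)]
  exact hw _ h1

end KD

end Cfsg.Agent.H430.Om7
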